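import Groth.Agent.H9T1Fin.Theta
import Groth.Agent.H9DefExt.Unit
import Groth.Agent.DefGlueLib.Schless
import Groth.Agent.ArtFunLib.Tangent
import Groth.Agent.H9DefObs.Vanish
import Groth.Prelude.Def_KLin
import Mathlib.CategoryTheory.Adjunction.Additive

/-! The class in `Ext¹(c^*Ω, O)` of a first-order deformation. -/

set_option autoImplicit false
set_option linter.style.haveILetI false
set_option backward.isDefEq.respectTransparency false
set_option backward.isDefEq.respectTransparency.types false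

universe u

open CategoryTheory CategoryTheory.Limits AlgebraicGeometry TopologicalSpace Opposite ArtFun ArtFun.Art Abelian

noncomputable section

namespace Groth.Agent.H9T1Fin

open Groth.Agent.DefGlueLib Groth.Agent.H9DefObs
open Scheme (AffineZariskiSite)

variable {k : Type u} [Field k] {X P : Scheme.{u}} [X.Over (Spec (CommRingCat.of k))]
  {c : X ⟶ P} {p : P ⟶ Art.specPt k} [IsAffineHom c] {𝒱 : FinCover P}
  [X.IsSeparated] [P.IsSeparated] [QuasiSeparated p] (hc : c ≫ p = X ↘ Spec (CommRingCat.of k))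

local notation "xk" => (X ↘ Spec (CommRingCat.of k))

/-- Changing the lifts changes the cocycle by a coboundary. -/
theorem exists_theta_eq {ξ : DefSch X xk (dual k k)} (L L' : Lifts c p 𝒱 ξ) :
    ∃ η : Omega.sheaf p ⟶ FC c 𝒱, theta L' hc = theta L hc + η ≫ pQ c 𝒱 := by
  let f : ∀ V : Aff P, Sec p V.1 → Γ(FC c 𝒱, V.1) := fun V s =>
    tup L' V s (exists_lift_sec (ξ := ξ) (c := c) V s).choose -
      tup L V s (exists_lift_sec (ξ := ξ) (c := c) V s).choose
  have hf : ∀ (V : Aff P) {s : Sec p V.1} {r : DSec ξ (c ⁻¹ᵁ V.1)}, qD ξ _ r = cS xk c p V.1 s →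
      f V s = tup L' V s r - tup L V s r := fun V s r hr => by
    rw [sub_eq_sub_iff_sub_eq_sub]
    exact (tup_sub L' V (exists_lift_sec (ξ := ξ) (c := c) V s).choose_spec hr).trans
      (tup_sub L V (exists_lift_sec (ξ := ξ) (c := c) V s).choose_spec hr).symm
  let E : H9DefExt.ModFam p (FC c 𝒱) :=
    { D := fun U s => f (aff U) s
      add := fun U a b => by
        obtain ⟨ra, ha⟩ := exists_lift_sec (ξ := ξ) (c := c) (p := p) (aff U) a
        obtain ⟨rb, hb⟩ := exists_lift_sec (ξ := ξ) (c := c) (p := p) (aff U) b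
        refine (hf (aff U) (r := ra + rb)
          ((map_add _ ra rb).trans ((congrArg₂ (· + ·) ha hb).trans (map_add _ a b).symm))).trans ?_
        rw [hf _ ha, hf _ hb]
        refine (congrArg₂ (· - ·) (tup_add L' (aff U) ha hb) (tup_add L (aff U) ha hb)).trans ?_
        exact add_sub_add_comm _ _ _ _
      map := fun {U V} h s => by
        have h' : aff V ≤ aff U := AffineZariskiSite.toOpens_mono h
        obtain ⟨r, hr⟩ := exists_lift_sec (ξ := ξ) (c := c) (p := p) (aff U) s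
        refine (hf (aff V) (r := resD ξ (c.preimage_mono h') r)
          ((qD_resD ξ _ r).trans ((congrArg _ hr).trans (cS_res h' s).symm))).trans ?_
        rw [hf _ hr]
        refine (congrArg₂ (· - ·) (tup_res L' h' hr) (tup_res L h' hr)).trans ?_
        exact (map_sub (resM _ (c.preimage_mono h')) _ _).symm
      mul := fun U a b => by
        obtain ⟨ra, ha⟩ := exists_lift_sec (ξ := ξ) (c := c) (p := p) (aff U) a
        obtain ⟨rb, hb⟩ := exists_lift_sec (ξ := ξ) (c := c) (p := p) (aff U) b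
        refine (hf (aff U) (r := ra * rb)
          ((map_mul _ ra rb).trans ((congrArg₂ (· * ·) ha hb).trans (map_mul _ a b).symm))).trans ?_
        rw [hf _ ha, hf _ hb]
        refine (congrArg₂ (· - ·) (tup_mul L' (aff U) ha hb) (tup_mul L (aff U) ha hb)).trans ?_
        refine (add_sub_add_comm _ _ _ _).trans (congrArg₂ (· + ·) ?_ ?_)
        · exact (smul_sub (A := Γ(cov (cover c 𝒱) (Coh.structureModule X), c ⁻¹ᵁ U.toOpens))
            (show Γ(X, c ⁻¹ᵁ U.toOpens) from cS xk c p _ a) _ _).symm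
        · exact (smul_sub (A := Γ(cov (cover c 𝒱) (Coh.structureModule X), c ⁻¹ᵁ U.toOpens))
            (show Γ(X, c ⁻¹ᵁ U.toOpens) from cS xk c p _ b) _ _).symm
      str := fun U t => by
        refine (hf (aff U) (r := secD ξ _ (algebraMap k (dual k k : Art k k) t))
          (((qD_secD ξ (cP c (aff U)) _).trans (congrArg _ ((dual k k : Art k k).res.commutes t))).trans
            (cS_algebraMap hc _ t).symm)).trans ?_
        exact (congrArg₂ (· - ·) (tup_str L' (aff U) t) (tup_str L (aff U) t)).trans (sub_zero _) }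
  obtain ⟨η, hη⟩ := E.exists_hom
  refine ⟨η, H9DefExt.omega_hom_ext p fun U s => ?_⟩
  obtain ⟨r, hr⟩ := exists_lift_sec (ξ := ξ) (c := c) (p := p) (aff U) s
  rw [Scheme.Modules.Hom.add_app]
  refine (theta_app L' hc U s).trans (Eq.trans ?_ (congrArg₂ (· + ·) (theta_app L hc U s).symm
    (congrArg ((pQ c 𝒱).app U.toOpens) (hη U s)).symm))
  show dfn L' (aff U) s = dfn L (aff U) s + (pQ c 𝒱).app U.toOpens (f (aff U) s)
  rw [dfn_eq L' _ hr, dfn_eq L _ hr, hf _ hr, map_sub, add_sub_cancel]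

theorem kap_smul_tup {ξ ξ' : DefSch X xk (dual k k)} {g : dual k k ⟶ dual k k} (Φ : Ov g ξ ξ')
    (L : Lifts c p 𝒱 ξ) {a : k} (hg : g H9Quot.de = algebraMap k (dual k k : Art k k) a * H9Quot.de)
    (V : Aff P) {s : Sec p V.1} {r : DSec ξ (c ⁻¹ᵁ V.1)} (hr : qD ξ _ r = cS xk c p V.1 s) :
    tup (L.map Φ) V s (mapD Φ _ r) =
      (show Γ(X, c ⁻¹ᵁ V.1) from algebraMap k (Sec xk (c ⁻¹ᵁ V.1)) a) • tup L V s r :=
  covGet_ext _ fun i => by
    erw [covGet_smul]
    rw [covGet_tup, covGet_tup]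
    have hle : (cc' c i V).1 ≤ c ⁻¹ᵁ V.1 := cutA_le_right (cP c (𝒱.U i)) (cP c V)
    show kap ξ' (cc' c i V) (dif (L.map Φ) i V s (mapD Φ _ r)) =
      resS xk hle (algebraMap k _ a) * kap ξ (cc' c i V) (dif L i V s r)
    rw [AlgHom.commutes, ← kap_map ξ Φ hg (qD_dif L i V hr)]
    refine congrArg _ ?_
    rw [dif, dif, L.ev_map Φ, map_sub, mapD_resD]

/-- The cocycle of a pushed forward family of lifts. -/
theorem theta_map {ξ ξ' : DefSch X xk (dual k k)} {g : dual k k ⟶ dual k k} (Φ : Ov g ξ ξ')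
    (L : Lifts c p 𝒱 ξ) {a : k} (hg : g H9Quot.de = algebraMap k (dual k k : Art k k) a * H9Quot.de) :
    theta (L.map Φ) hc = theta L hc ≫
      (Scheme.Modules.pushforward c).map (a • 𝟙 (qt (cover c 𝒱) (Coh.structureModule X))) := by
  refine H9DefExt.omega_hom_ext p fun U s => ?_
  obtain ⟨r, hr⟩ := exists_lift_sec (ξ := ξ) (c := c) (p := p) (aff U) s
  refine Eq.trans ?_ (congrArg (((Scheme.Modules.pushforward c).map
    (a • 𝟙 (qt (cover c 𝒱) (Coh.structureModule X)))).app U.toOpens) (theta_app L hc U s)).symm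
  rw [theta_app, dfn_eq _ _ hr, dfn_eq (L.map Φ) (aff U) (r := mapD Φ _ r) ((qD_mapD Φ _ r).trans hr)]
  refine Eq.trans ?_ (KLin.smul_app_apply a (𝟙 (qt (cover c 𝒱) (Coh.structureModule X))) (c ⁻¹ᵁ U.toOpens) _).symm
  refine (congrArg _ (kap_smul_tup Φ L hg (aff U) hr)).trans ?_
  exact Scheme.Modules.Hom.app_smul (cokernel.π (toCov (cover c 𝒱) (Coh.structureModule X))) _ _

/-- The cocycle of a sum. -/
theorem theta_plus {ζ : DefSch X xk (dual2 k k)} {ξ₁ ξ₂ ξ₃ : DefSch X xk (dual k k)}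
    (Φ₁ : Ov pr₁ ζ ξ₁) (Φ₂ : Ov pr₂ ζ ξ₂) (Φ₃ : Ov plus ζ ξ₃) (L : Lifts c p 𝒱 ζ) :
    theta (L.map Φ₃) hc = theta (L.map Φ₁) hc + theta (L.map Φ₂) hc := by
  refine H9DefExt.omega_hom_ext p fun U s => ?_
  let V := aff U
  obtain ⟨r, hr⟩ : ∃ r, qD ζ (c ⁻¹ᵁ V.1) r = cS xk c p V.1 s := (isDefD ζ (cP c V)).surjective _
  rw [Scheme.Modules.Hom.add_app]
  refine (theta_app (L.map Φ₃) hc U s).trans (Eq.trans ?_
    (congrArg₂ (· + ·) (theta_app (L.map Φ₁) hc U s) (theta_app (L.map Φ₂) hc U s)).symm)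
  rw [dfn_eq (L.map Φ₃) _ (r := mapD Φ₃ _ r) ((qD_mapD Φ₃ _ r).trans hr),
    dfn_eq (L.map Φ₁) _ (r := mapD Φ₁ _ r) ((qD_mapD Φ₁ _ r).trans hr),
    dfn_eq (L.map Φ₂) _ (r := mapD Φ₂ _ r) ((qD_mapD Φ₂ _ r).trans hr), ← map_add]
  refine congrArg _ (covGet_ext _ fun i => ?_)
  have hle : (cc' c i V).1 ≤ c ⁻¹ᵁ V.1 := cutA_le_right (cP c (𝒱.U i)) (cP c V)
  have hy : qD ζ _ (L.ev i V s - resD ζ hle r) = 0 := by
    rw [map_sub, L.qD_ev, qD_resD, hr, sub_self]
  erw [map_add, covGet_tup, covGet_tup, covGet_tup]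
  refine (congrArg (kap ξ₃ _) ?_).trans ((kap_plus Φ₁ Φ₂ Φ₃ hy).trans
    (congrArg₂ (· + ·) (congrArg (kap ξ₁ _) ?_) (congrArg (kap ξ₂ _) ?_)))
  all_goals simp only [dif, map_sub, mapD_resD, L.ev_map]

variable [HasExt.{u} X.Modules]

/-- The transpose. -/
abbrev flat (θ : Omega.sheaf p ⟶ FQ c 𝒱) :
    (Scheme.Modules.pullback c).obj (Omega.sheaf p) ⟶ qt (cover c 𝒱) (Coh.structureModule X) :=
  ((Scheme.Modules.pullbackPushforwardAdjunction c).homEquiv _ _).symm θ

/-- The class of a family of lifts. -/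
def cls {ξ : DefSch X xk (dual k k)} (L : Lifts c p 𝒱 ξ) :
    Ext.{u} ((Scheme.Modules.pullback c).obj (Omega.sheaf p)) (Coh.structureModule X) 1 :=
  (Ext.mk₀ (flat (theta L hc))).comp (shortExact_covSeq (cover c 𝒱) (Coh.structureModule X)).extClass (zero_add 1)

theorem flat_add (θ θ' : Omega.sheaf p ⟶ FQ c 𝒱) : flat (θ + θ') = flat θ + flat θ' :=
  map_add ((Scheme.Modules.pullbackPushforwardAdjunction c).homAddEquiv _ _).symm θ θ'

theorem cls_unique {ξ : DefSch X xk (dual k k)} (L L' : Lifts c p 𝒱 ξ) : cls hc L' = cls hc L := by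
  obtain ⟨η, hη⟩ := exists_theta_eq hc L L'
  rw [cls, cls, hη, flat_add, Ext.mk₀_add, Ext.add_comp,
    show flat (η ≫ pQ c 𝒱) = _ from
      (Scheme.Modules.pullbackPushforwardAdjunction c).homEquiv_naturality_right_symm η _,
    ← Ext.mk₀_comp_mk₀, Ext.comp_assoc_of_second_deg_zero,
    (shortExact_covSeq (cover c 𝒱) (Coh.structureModule X)).comp_extClass, Ext.comp_zero, add_zero]

theorem cls_map {ξ ξ' : DefSch X xk (dual k k)} {g : dual k k ⟶ dual k k} (Φ : Ov g ξ ξ')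
    (L : Lifts c p 𝒱 ξ) {a : k} (hg : g H9Quot.de = algebraMap k (dual k k : Art k k) a * H9Quot.de) :
    cls hc (L.map Φ) = a • cls hc L := by
  rw [cls, theta_map hc Φ L hg,
    show flat (theta L hc ≫ (Scheme.Modules.pushforward c).map
      (a • 𝟙 (qt (cover c 𝒱) (Coh.structureModule X)))) = _ from
      (Scheme.Modules.pullbackPushforwardAdjunction c).homEquiv_naturality_right_symm (theta L hc) _,
    Linear.comp_smul, Category.comp_id, Ext.mk₀_smul, Ext.smul_comp]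
  rfl

theorem cls_plus {ζ : DefSch X xk (dual2 k k)} {ξ₁ ξ₂ ξ₃ : DefSch X xk (dual k k)}
    (Φ₁ : Ov pr₁ ζ ξ₁) (Φ₂ : Ov pr₂ ζ ξ₂) (Φ₃ : Ov plus ζ ξ₃) (L : Lifts c p 𝒱 ζ) :
    cls hc (L.map Φ₃) = cls hc (L.map Φ₁) + cls hc (L.map Φ₂) := by
  rw [cls, theta_plus hc Φ₁ Φ₂ Φ₃ L, flat_add, Ext.mk₀_add, Ext.add_comp]
  rfl

variable [Smooth p]

include hc in
theorem exists_linearMap [TangentStr (defFunctor (Λ := k) X xk)] :
    ∃ φ : TangentSpace (defFunctor (Λ := k) X xk) →ₗ[k]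
        Ext.{u} ((Scheme.Modules.pullback c).obj (Omega.sheaf p)) (Coh.structureModule X) 1,
      ∀ (ξ : DefSch X xk (dual k k)) (L : Lifts c p 𝒱 ξ), φ (TangentSpace.mk ξ.cl) = cls hc L := by
  let fn : ∀ ξ : DefSch X xk (dual k k),
      Ext.{u} ((Scheme.Modules.pullback c).obj (Omega.sheaf p)) (Coh.structureModule X) 1 :=
    fun ξ => cls hc (nonempty_lifts (𝒱 := 𝒱) hc ξ).some
  have key : ∀ {ξ ξ' : DefSch X xk (dual k k)} (L : Lifts c p 𝒱 ξ) (L' : Lifts c p 𝒱 ξ'),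
      ξ.cl = ξ'.cl → cls hc L = cls hc L' := fun {ξ ξ'} L L' e => by
    obtain ⟨σ⟩ := cl_eq_iff.1 e
    have h := cls_map hc (Ov.ofIso σ) L' (a := 1) (by rw [map_one, one_mul]; rfl)
    rw [one_smul] at h
    exact (cls_unique hc _ _).trans h
  let F : (defFunctor (Λ := k) X xk).obj (dual k k) →
      Ext.{u} ((Scheme.Modules.pullback c).obj (Omega.sheaf p)) (Coh.structureModule X) 1 := fun q =>
    fn (cl_surjective q).choose
  have hF : ∀ (ξ : DefSch X xk (dual k k)) (L : Lifts c p 𝒱 ξ), F ξ.cl = cls hc L := fun ξ L =>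
    key _ L (cl_surjective ξ.cl).choose_spec
  refine ⟨{ toFun := fun t => F (TangentSpace.val t), map_add' := fun t t' => ?_, map_smul' := fun a t => ?_ },
    fun ξ L => hF ξ L⟩
  · obtain ⟨z, hz₁, hz₂⟩ := Groth.Agent.ArtFunLib.exists_pair h0_defFunctor heps_defFunctor (TangentSpace.val t) (TangentSpace.val t')
    obtain ⟨ζ, rfl⟩ := cl_surjective z
    rw [defFunctor_map_cl] at hz₁ hz₂
    have hadd := Groth.Agent.ArtFunLib.tangent_add_eq (F := defFunctor (Λ := k) X xk) ζ.cl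
    rw [defFunctor_map_cl, defFunctor_map_cl, defFunctor_map_cl] at hadd
    obtain ⟨L⟩ := nonempty_lifts (𝒱 := 𝒱) hc ζ
    have h := cls_plus hc (Ov.proj ζ pr₁) (Ov.proj ζ pr₂) (Ov.proj ζ plus) L
    have e1 : t = TangentSpace.mk (ζ.baseChange pr₁).cl := congrArg TangentSpace.mk hz₁.symm
    have e2 : t' = TangentSpace.mk (ζ.baseChange pr₂).cl := congrArg TangentSpace.mk hz₂.symm
    rw [e1, e2, hadd]
    exact (hF _ (L.map (Ov.proj ζ plus))).trans (h.trans (congrArg₂ (· + ·) (hF _ _).symm (hF _ _).symm))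
  · obtain ⟨ξ, hξ⟩ := cl_surjective (TangentSpace.val t)
    have e1 : t = TangentSpace.mk ξ.cl := congrArg TangentSpace.mk hξ.symm
    obtain ⟨L⟩ := nonempty_lifts (𝒱 := 𝒱) hc ξ
    have hs := Groth.Agent.ArtFunLib.tangent_smul_eq (F := defFunctor (Λ := k) X xk) a ξ.cl
    rw [defFunctor_map_cl] at hs
    rw [e1, hs]
    refine (hF _ (L.map (Ov.proj ξ (scale a)))).trans ?_
    rw [cls_map hc (Ov.proj ξ (scale a)) L (a := a) ?_]
    · exact congrArg (a • ·) (hF _ _).symm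
    · exact H9Quot.scale_de a

end Groth.Agent.H9T1Fin
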