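import Groth.Agent.H9T1Fin.Psi
import Groth.Agent.DefGlueLib.Schless
import Groth.Agent.FComplLib.IdealComap
import Groth.Agent.ArtFunLib.HilbSit

/-! A deformation with vanishing class embeds in the trivial deformation of the ambient space. -/

set_option autoImplicit false
set_option linter.style.haveILetI false
set_option backward.isDefEq.respectTransparency false
set_option backward.isDefEq.respectTransparency.types false

universe u

open CategoryTheory CategoryTheory.Limits AlgebraicGeometry TopologicalSpace Opposite ArtFun ArtFun.Art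

noncomputable section

namespace Groth.Agent.H9T1Fin

open Groth.Agent.DefGlueLib Groth.Agent.H9DefObs Groth.Agent.ArtFunLib Groth.Agent.ArtFunLib.HilbAffine
open Scheme (AffineZariskiSite)

variable {k : Type u} [Field k] {X P : Scheme.{u}} {x : X ⟶ Art.specPt k}
  {c : X ⟶ P} {p : P ⟶ Art.specPt k} [IsAffineHom c] {𝒱 : FinCover P}
  [X.IsSeparated] [P.IsSeparated]

/-- Morphisms out of opens agree if they agree on the affine charts. -/
theorem exists_morphism {C : Art k k} (ξ : DefSch X x C) (hc : c ≫ p = x)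
    (ψ : ∀ V : Aff P, Sec p V.1 →+* DSec ξ (c ⁻¹ᵁ V.1))
    (hq : ∀ V s, qD ξ _ (ψ V s) = cS x c p V.1 s)
    (hstr : ∀ V t, ψ V (algebraMap k _ t) = secD ξ _ (algebraMap k C t))
    (hres : ∀ {V' V : Aff P} (h : V' ≤ V) (s : Sec p V.1),
      ψ V' (resS p h s) = resD ξ (c.preimage_mono h) (ψ V s)) :
    ∃ φ : ξ.total ⟶ P, ξ.i ≫ φ = c ∧ φ ≫ p = ξ.f ≫ specOver C ∧
      ∀ (V : Aff P) (e : imOpen ξ (c ⁻¹ᵁ V.1) ≤ φ ⁻¹ᵁ V.1) (s : Sec p V.1),
        φ.appLE V.1 (imOpen ξ (c ⁻¹ᵁ V.1)) e s = ψ V s := by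
  have hO : ∀ V : Aff P, IsAffineOpen (imOpen ξ (c ⁻¹ᵁ V.1)) := fun V =>
    isAffineOpen_imOpen ξ (show AffineZariskiSite X from ⟨(cP c V).1, (cP c V).2⟩)
  let ψ' : ∀ V : Aff P, Γ(P, V.1) ⟶ Γ(ξ.total, imOpen ξ (c ⁻¹ᵁ V.1)) := fun V => CommRingCat.ofHom (ψ V)
  let φl : ∀ V : Aff P, (imOpen ξ (c ⁻¹ᵁ V.1)).toScheme ⟶ P := fun V =>
    (hO V).isoSpec.hom ≫ Spec.map (ψ' V) ≫ V.2.fromSpec
  have hφl : ∀ V, (hO V).isoSpec.inv ≫ φl V = Spec.map (ψ' V) ≫ V.2.fromSpec := fun V =>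
    (Iso.inv_hom_id_assoc _ _)
  have hmono : ∀ {V' V : Aff P} (h : V' ≤ V),
      ξ.total.homOfLE (imOpen_mono ξ (c.preimage_mono h)) ≫ φl V = φl V' := by
    intro V' V h
    rw [← cancel_epi (hO V').isoSpec.inv, hφl V']
    have h1 : (hO V').isoSpec.inv ≫ ξ.total.homOfLE (imOpen_mono ξ (c.preimage_mono h)) =
        Spec.map (ξ.total.presheaf.map (homOfLE (imOpen_mono ξ (c.preimage_mono h))).op) ≫ (hO V).isoSpec.inv := by
      rw [← cancel_mono (imOpen ξ (c ⁻¹ᵁ V.1)).ι, Category.assoc, Category.assoc, Scheme.homOfLE_ι,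
        IsAffineOpen.isoSpec_inv_ι, IsAffineOpen.isoSpec_inv_ι, IsAffineOpen.map_fromSpec]
    rw [← Category.assoc, h1, Category.assoc, hφl, ← Category.assoc, ← Spec.map_comp,
      ← IsAffineOpen.map_fromSpec V.2 V'.2 (homOfLE h).op, ← Category.assoc, ← Spec.map_comp]
    refine congrArg (fun g => Spec.map g ≫ V.2.fromSpec) ?_
    ext s
    exact (hres h s).symm
  have hcov : IsOpenCover fun V : Aff P => imOpen ξ (c ⁻¹ᵁ V.1) := by
    refine top_unique fun z _ => ?_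
    obtain ⟨q, rfl⟩ := ξ.i.surjective z
    obtain ⟨W, hq', -⟩ := H9DefAut.exists_affine_le (X := P) (W := ⊤) (p := c q) trivial
    refine Opens.mem_iSup.2 ⟨⟨W.toOpens, W.2⟩, ?_⟩
    show q ∈ ξ.i ⁻¹ᵁ imOpen ξ (c ⁻¹ᵁ W.toOpens)
    rw [preimage_imOpen]
    exact hq'
  let 𝒰 := Scheme.openCoverOfIsOpenCover ξ.total _ hcov
  have hglue : ∀ V V' : Aff P, pullback.fst (imOpen ξ (c ⁻¹ᵁ V.1)).ι (imOpen ξ (c ⁻¹ᵁ V'.1)).ι ≫ φl V =
      pullback.snd _ _ ≫ φl V' := fun V V' => by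
    let V'' : Aff P := ⟨V.1 ⊓ V'.1, V.2.inf V'.2⟩
    have hr : Set.range (pullback.fst (imOpen ξ (c ⁻¹ᵁ V.1)).ι (imOpen ξ (c ⁻¹ᵁ V'.1)).ι ≫
        (imOpen ξ (c ⁻¹ᵁ V.1)).ι) ⊆ Set.range (imOpen ξ (c ⁻¹ᵁ V''.1)).ι := by
      rintro _ ⟨z, rfl⟩
      rw [Scheme.Opens.range_ι]
      obtain ⟨q, hq'⟩ := ξ.i.surjective
        ((pullback.fst (imOpen ξ (c ⁻¹ᵁ V.1)).ι (imOpen ξ (c ⁻¹ᵁ V'.1)).ι ≫ (imOpen ξ (c ⁻¹ᵁ V.1)).ι) z)
      have h1 : ξ.i q ∈ imOpen ξ (c ⁻¹ᵁ V.1) := by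
        rw [hq']
        exact (pullback.fst (imOpen ξ (c ⁻¹ᵁ V.1)).ι (imOpen ξ (c ⁻¹ᵁ V'.1)).ι z).2
      have h2 : ξ.i q ∈ imOpen ξ (c ⁻¹ᵁ V'.1) := by
        rw [hq', pullback.condition]
        exact (pullback.snd (imOpen ξ (c ⁻¹ᵁ V.1)).ι (imOpen ξ (c ⁻¹ᵁ V'.1)).ι z).2
      rw [← hq']
      show q ∈ ξ.i ⁻¹ᵁ imOpen ξ (c ⁻¹ᵁ V''.1)
      rw [preimage_imOpen]
      exact ⟨(preimage_imOpen ξ (c ⁻¹ᵁ V.1)).le h1, (preimage_imOpen ξ (c ⁻¹ᵁ V'.1)).le h2⟩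
    let g := IsOpenImmersion.lift (imOpen ξ (c ⁻¹ᵁ V''.1)).ι _ hr
    have hg := IsOpenImmersion.lift_fac (imOpen ξ (c ⁻¹ᵁ V''.1)).ι _ hr
    have e1 : pullback.fst (imOpen ξ (c ⁻¹ᵁ V.1)).ι (imOpen ξ (c ⁻¹ᵁ V'.1)).ι =
        g ≫ ξ.total.homOfLE (imOpen_mono ξ (c.preimage_mono (show V''.1 ≤ V.1 from inf_le_left))) := by
      rw [← cancel_mono (imOpen ξ (c ⁻¹ᵁ V.1)).ι, Category.assoc, Scheme.homOfLE_ι, hg]
    have e2 : pullback.snd (imOpen ξ (c ⁻¹ᵁ V.1)).ι (imOpen ξ (c ⁻¹ᵁ V'.1)).ι =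
        g ≫ ξ.total.homOfLE (imOpen_mono ξ (c.preimage_mono (show V''.1 ≤ V'.1 from inf_le_right))) := by
      rw [← cancel_mono (imOpen ξ (c ⁻¹ᵁ V'.1)).ι, Category.assoc, Scheme.homOfLE_ι, hg, pullback.condition]
    rw [e1, e2, Category.assoc, Category.assoc, hmono (V' := V'') (V := V) (show V''.1 ≤ V.1 from inf_le_left),
      hmono (V' := V'') (V := V') (show V''.1 ≤ V'.1 from inf_le_right)]
  let φ := 𝒰.glueMorphisms φl hglue
  have hφ : ∀ V : Aff P, (imOpen ξ (c ⁻¹ᵁ V.1)).ι ≫ φ = φl V := fun V => 𝒰.ι_glueMorphisms φl hglue V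
  have hφ' : ∀ V : Aff P, (hO V).fromSpec ≫ φ = Spec.map (ψ' V) ≫ V.2.fromSpec := fun V => by
    rw [← hφl V, ← hφ V, ← Category.assoc, IsAffineOpen.isoSpec_inv_ι]
  refine ⟨φ, ?_, ?_, fun V e s => ?_⟩
  · refine Scheme.Cover.hom_ext (Scheme.openCoverOfIsOpenCover X (fun V : Aff P => c ⁻¹ᵁ V.1)
      (top_unique fun q _ => ?_)) _ _ fun V => ?_
    · obtain ⟨W, hq', -⟩ := H9DefAut.exists_affine_le (X := P) (W := ⊤) (p := c q) trivial
      exact Opens.mem_iSup.2 ⟨⟨W.toOpens, W.2⟩, hq'⟩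
    · show (c ⁻¹ᵁ V.1).ι ≫ ξ.i ≫ φ = (c ⁻¹ᵁ V.1).ι ≫ c
      rw [← cancel_epi (cP c V).2.isoSpec.inv]
      simp only [← Category.assoc, IsAffineOpen.isoSpec_inv_ι]
      rw [Category.assoc, ← Category.assoc,
        ← IsAffineOpen.SpecMap_appLE_fromSpec ξ.i (hO V) (cP c V).2 (preimage_imOpen ξ _).ge, Category.assoc,
        hφ', ← Category.assoc, ← Spec.map_comp,
        ← IsAffineOpen.SpecMap_appLE_fromSpec c V.2 (cP c V).2 le_rfl]
      refine congrArg (fun g => Spec.map g ≫ V.2.fromSpec) ?_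
      ext t
      refine (hq V t).trans ?_
      rw [← Scheme.Hom.app_eq_appLE]
      rfl
  · refine Scheme.Cover.hom_ext 𝒰 _ _ fun V => ?_
    show (imOpen ξ (c ⁻¹ᵁ V.1)).ι ≫ φ ≫ p = (imOpen ξ (c ⁻¹ᵁ V.1)).ι ≫ ξ.f ≫ specOver C
    rw [← cancel_epi (hO V).isoSpec.inv]
    simp only [← Category.assoc, IsAffineOpen.isoSpec_inv_ι]
    rw [hφ', Category.assoc]
    refine (congrArg (Spec.map (ψ' V) ≫ ·)
      (SpecMap_str p (show AffineZariskiSite P from ⟨V.1, V.2⟩)).symm).trans ?_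
    refine Eq.trans ?_ (congrArg (· ≫ specOver C) (SpecMap_secA ξ (hO V)))
    show Spec.map _ ≫ Spec.map _ = Spec.map _ ≫ Spec.map _
    rw [← Spec.map_comp, ← Spec.map_comp]
    refine congrArg Spec.map (CommRingCat.hom_ext (RingHom.ext fun t => ?_))
    exact hstr V t
  · have h1 : φ.appLE V.1 (imOpen ξ (c ⁻¹ᵁ V.1)) e = ψ' V := Spec.map_injective ((cancel_mono V.2.fromSpec).1
      ((IsAffineOpen.SpecMap_appLE_fromSpec φ V.2 (hO V) e).trans (hφ' V)))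
    exact congr($h1 s)

theorem surjective_appLE_of_eq {Z Y : Scheme.{u}} (f : Z ⟶ Y) {A : Y.Opens} {B : Z.Opens} (e : B ≤ f ⁻¹ᵁ A)
    {W : Y.Opens} (hA : A = W) (hB : B = f ⁻¹ᵁ W) (h : Function.Surjective (f.app W)) :
    Function.Surjective (f.appLE A B e) := by
  subst hA hB
  rwa [← Scheme.Hom.app_eq_appLE]

theorem surjective_app_of_eq {Z Y : Scheme.{u}} (f : Z ⟶ Y) {W : Y.Opens} {B : Z.Opens} (hB : B = f ⁻¹ᵁ W)
    (h : Function.Surjective (f.appLE W B hB.le)) : Function.Surjective (f.app W) := by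
  subst hB
  rwa [← Scheme.Hom.app_eq_appLE] at h

/-- A deformation with such lifts is a closed subscheme of the trivial deformation. -/
theorem exists_embedding [IsClosedImmersion c] (ξ : DefSch X x (dual k k)) (hc : c ≫ p = x)
    (ψ : ∀ V : Aff P, Sec p V.1 →+* DSec ξ (c ⁻¹ᵁ V.1))
    (hq : ∀ V s, qD ξ _ (ψ V s) = cS x c p V.1 s)
    (hstr : ∀ V t, ψ V (algebraMap k _ t) = secD ξ _ (algebraMap k (dual k k : Art k k) t))
    (hres : ∀ {V' V : Aff P} (h : V' ≤ V) (s : Sec p V.1),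
      ψ V' (resS p h s) = resD ξ (c.preimage_mono h) (ψ V s)) :
    ∃ ι : ξ.total ⟶ XA p (dual k k), IsClosedImmersion ι ∧ ι ≫ XApr p (dual k k) = ξ.f ∧
      ξ.i ≫ ι = c ≫ XAincl p (dual k k) := by
  obtain ⟨φ, hiφ, hφp, hφψ⟩ := exists_morphism ξ hc ψ hq hstr hres
  let ι : ξ.total ⟶ XA p (dual k k) := pullback.lift φ ξ.f hφp
  have hι1 : ι ≫ pullback.fst p (specOver (dual k k)) = φ := pullback.lift_fst _ _ _
  have hι2 : ι ≫ XApr p (dual k k) = ξ.f := pullback.lift_snd _ _ _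
  refine ⟨ι, ?_, hι2, ?_⟩
  swap
  · refine pullback.hom_ext ?_ ?_
    · rw [Category.assoc, Category.assoc, XAincl_fst, Category.comp_id, hι1, hiφ]
    · rw [Category.assoc, Category.assoc, XAincl_snd, ← Category.assoc c, hc]
      exact (congrArg (ξ.i ≫ ·) hι2).trans ξ.isPullback.w
  rw [IsZariskiLocalAtTarget.iff_of_iSup_eq_top (P := @IsClosedImmersion)
    (fun V : P.affineOpens => (W p (dual k k) V).1) (iSup_W p (dual k k))]
  intro U
  let V : Aff P := ⟨U.1, U.2⟩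
  have hpre : ι ⁻¹ᵁ (W p (dual k k) U).1 = imOpen ξ (c ⁻¹ᵁ V.1) := by
    refine eq_imOpen ξ ?_
    show ξ.i ⁻¹ᵁ ι ⁻¹ᵁ (pullback.fst p (specOver (dual k k)) ⁻¹ᵁ U.1) = _
    rw [← Scheme.Hom.comp_preimage ι, hι1, ← Scheme.Hom.comp_preimage, hiφ]
  haveI : IsAffine (W p (dual k k) U).1.toScheme := (W p (dual k k) U).2
  rw [HasAffineProperty.iff_of_isAffine (P := @IsClosedImmersion)]
  refine ⟨?_, ?_⟩
  · rw [hpre]
    exact isAffineOpen_imOpen ξ (show AffineZariskiSite X from ⟨(cP c V).1, (cP c V).2⟩)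
  rw [Scheme.Hom.appTop, morphismRestrict_app']
  refine surjective_appLE_of_eq ι _ (Scheme.Opens.ι_image_top _) (Scheme.Opens.ι_image_top _) ?_
  refine surjective_app_of_eq ι hpre.symm ?_
  let O := imOpen ξ (c ⁻¹ᵁ V.1)
  let g : Γ(XA p (dual k k), (W p (dual k k) U).1) →+* DSec ξ (c ⁻¹ᵁ V.1) :=
    (ι.appLE (W p (dual k k) U).1 O hpre.ge).hom
  show Function.Surjective g
  intro y
  have eφ : O ≤ φ ⁻¹ᵁ V.1 := by
    refine hpre.ge.trans (le_of_eq ?_)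
    show ι ⁻¹ᵁ (pullback.fst p (specOver (dual k k)) ⁻¹ᵁ U.1) = _
    rw [← Scheme.Hom.comp_preimage ι, hι1]
  have hfp : ∀ s, g (HilbSit.fstPull p (dual k k) U s) = ψ V s := fun s => by
    refine Eq.trans ?_ (hφψ V eφ s)
    refine (congrArg g (congr($(Scheme.Hom.app_eq_appLE (pullback.fst p (specOver (dual k k)))) s))).trans ?_
    have := Scheme.Hom.appLE_comp_appLE ι (pullback.fst p (specOver (dual k k))) U.1 (W p (dual k k) U).1 O
      (le_of_eq rfl) hpre.ge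
    simp only [hι1] at this
    exact congr($this s)
  have hcc : ∀ t, g (HilbAffine.c p (dual k k) U t) = secD ξ _ t := fun t => by
    have := Scheme.Hom.appLE_comp_appLE ι (XApr p (dual k k)) ⊤ (W p (dual k k) U).1 O (fun _ _ => trivial) hpre.ge
    simp only [hι2] at this
    exact congr($this ((Scheme.ΓSpecIso (CommRingCat.of (dual k k : Art k k))).inv t))
  have hsurj : ∀ b : Sec x (c ⁻¹ᵁ V.1), ∃ s, cS x c p V.1 s = b := fun b => c.app_surjective V.1 V.2 b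
  obtain ⟨s, hs⟩ := hsurj (qD ξ _ y)
  obtain ⟨r, hr⟩ := exists_mul_de ξ (cP c V) (y := y - ψ V s) (by rw [map_sub, hq, hs, sub_self])
  obtain ⟨s', hs'⟩ := hsurj (qD ξ _ r)
  obtain ⟨r', hr'⟩ := exists_mul_de ξ (cP c V) (y := r - ψ V s') (by rw [map_sub, hq, hs', sub_self])
  refine ⟨HilbSit.fstPull p (dual k k) U s +
    HilbAffine.c p (dual k k) U H9Quot.de * HilbSit.fstPull p (dual k k) U s', ?_⟩
  rw [map_add, map_mul, hfp, hfp, hcc]
  have h0 : secD ξ (c ⁻¹ᵁ V.1) H9Quot.de * secD ξ _ H9Quot.de = 0 := by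
    rw [← map_mul, H9HomTan.de_mul_de, map_zero]
  linear_combination hr + secD ξ (c ⁻¹ᵁ V.1) H9Quot.de * hr' - r' * h0

end Groth.Agent.H9T1Fin
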