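import Groth.Agent.H9DefObs.Converse
import Groth.Agent.H9HomTan.Coef
import Groth.Agent.H9DefoSh.Torsor

/-! The coordinate on the kernel of the reduction of a first-order deformation. -/

set_option autoImplicit false
set_option linter.style.haveILetI false
set_option backward.isDefEq.respectTransparency false
set_option backward.isDefEq.respectTransparency.types false

universe u

open CategoryTheory CategoryTheory.Limits AlgebraicGeometry TopologicalSpace Opposite ArtFun ArtFun.Art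

noncomputable section

namespace Groth.Agent.H9T1Fin

open Groth.Agent.DefGlueLib Groth.Agent.H9DefObs Groth.Agent.H9HomTan
open Groth.Agent.H9Quot (de de₁ de₂)

variable {k : Type u} [Field k] {X : Scheme.{u}} {x : X ⟶ Art.specPt k}

theorem dual_res_de : (dual k k : Art k k).res de = 0 := (Art.mem_maximalIdeal_iff _ _).1 de_mem

variable (ξ : DefSch X x (dual k k))

theorem exists_mul_de (V : Aff X) {y : DSec ξ V.1} (hy : qD ξ V.1 y = 0) :
    ∃ r, secD ξ V.1 de * r = y := by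
  have h := ker_qD_le ξ V hy
  rw [maximalIdeal_dual, Ideal.map_span, Set.pair_eq_singleton, Set.image_singleton,
    Ideal.mem_span_singleton] at h
  obtain ⟨r, hr⟩ := h
  exact ⟨r, hr.symm⟩

theorem qD_eq_zero_of_de_mul (V : Aff X) {r : DSec ξ V.1} (h : secD ξ V.1 de * r = 0) :
    qD ξ V.1 r = 0 := by
  letI : Algebra (DualNumber k) (DSec ξ V.1) := RingHom.toAlgebra (secD ξ V.1)
  haveI : Module.Flat (DualNumber k) (DSec ξ V.1) := (isDefD ξ V).flat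
  obtain ⟨w, rfl⟩ := H9DefoSh.exists_eps_smul (k := k) r ((Algebra.smul_def _ _).trans h)
  rw [Algebra.smul_def]
  show qD ξ V.1 (secD ξ V.1 de * w) = 0
  rw [map_mul, qD_secD, dual_res_de, map_zero, zero_mul]

/-- The coordinate of an element of the kernel. -/
def kap (V : Aff X) (y : DSec ξ V.1) : Sec x V.1 := by
  classical
  exact if h : ∃ r, secD ξ V.1 de * r = y then qD ξ V.1 h.choose else 0

theorem kap_eq {V : Aff X} {y r : DSec ξ V.1} (h : secD ξ V.1 de * r = y) :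
    kap ξ V y = qD ξ V.1 r := by
  have hex : ∃ r, secD ξ V.1 de * r = y := ⟨r, h⟩
  rw [kap, dif_pos hex, ← sub_eq_zero, ← map_sub]
  exact qD_eq_zero_of_de_mul ξ V (by rw [mul_sub, hex.choose_spec, h, sub_self])

theorem kap_zero (V : Aff X) : kap ξ V 0 = 0 := (kap_eq ξ (mul_zero _)).trans (map_zero _)

theorem kap_add {V : Aff X} {y z : DSec ξ V.1} (hy : qD ξ V.1 y = 0) (hz : qD ξ V.1 z = 0) :
    kap ξ V (y + z) = kap ξ V y + kap ξ V z := by
  obtain ⟨r, rfl⟩ := exists_mul_de ξ V hy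
  obtain ⟨s, rfl⟩ := exists_mul_de ξ V hz
  rw [kap_eq ξ (r := r + s) (mul_add _ _ _), kap_eq ξ rfl, kap_eq ξ rfl, map_add]

theorem kap_sub {V : Aff X} {y z : DSec ξ V.1} (hy : qD ξ V.1 y = 0) (hz : qD ξ V.1 z = 0) :
    kap ξ V (y - z) = kap ξ V y - kap ξ V z := by
  rw [eq_sub_iff_add_eq, ← kap_add ξ (by rw [map_sub, hy, hz, sub_self]) hz, sub_add_cancel]

theorem kap_mul {V : Aff X} {y : DSec ξ V.1} (hy : qD ξ V.1 y = 0) (a : DSec ξ V.1) :
    kap ξ V (a * y) = qD ξ V.1 a * kap ξ V y := by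
  obtain ⟨r, rfl⟩ := exists_mul_de ξ V hy
  rw [kap_eq ξ (r := a * r) (mul_left_comm _ _ _), kap_eq ξ rfl, map_mul]

theorem kap_res {V W : Aff X} (h : V ≤ W) {y : DSec ξ W.1} (hy : qD ξ W.1 y = 0) :
    kap ξ V (resD ξ h y) = resS x h (kap ξ W y) := by
  obtain ⟨r, rfl⟩ := exists_mul_de ξ W hy
  rw [map_mul, resD_secD, kap_eq ξ rfl, kap_eq ξ rfl, qD_resD]

theorem eq_zero_of_kap {V : Aff X} {y : DSec ξ V.1} (hy : qD ξ V.1 y = 0) (h : kap ξ V y = 0) : y = 0 := by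
  obtain ⟨r, rfl⟩ := exists_mul_de ξ V hy
  rw [kap_eq ξ rfl] at h
  obtain ⟨s, rfl⟩ := exists_mul_de ξ V h
  rw [← mul_assoc, ← map_mul, de_mul_de, map_zero, zero_mul]

theorem kap_map {ξ' : DefSch X x (dual k k)} {g : dual k k ⟶ dual k k} (Φ : Ov g ξ ξ') {a : k}
    (hg : g de = algebraMap k (dual k k : Art k k) a * de) {V : Aff X} {y : DSec ξ V.1}
    (hy : qD ξ V.1 y = 0) : kap ξ' V (mapD Φ V.1 y) = algebraMap k (Sec x V.1) a * kap ξ V y := by
  obtain ⟨r, rfl⟩ := exists_mul_de ξ V hy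
  rw [map_mul, mapD_secD, hg, map_mul, mul_right_comm, mul_comm _ (mapD Φ V.1 r), mul_comm _ (secD _ _ de),
    kap_eq ξ' (r := mapD Φ V.1 r * secD ξ' V.1 (algebraMap k _ a)) rfl, kap_eq ξ rfl, map_mul, qD_mapD,
    qD_secD, AlgHom.commutes, mul_comm]
  rfl

theorem kap_plus {ζ : DefSch X x (dual2 k k)} {ξ₁ ξ₂ ξ₃ : DefSch X x (dual k k)}
    (Φ₁ : Ov pr₁ ζ ξ₁) (Φ₂ : Ov pr₂ ζ ξ₂) (Φ₃ : Ov plus ζ ξ₃) {V : Aff X} {y : DSec ζ V.1}
    (hy : qD ζ V.1 y = 0) :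
    kap ξ₃ V (mapD Φ₃ V.1 y) = kap ξ₁ V (mapD Φ₁ V.1 y) + kap ξ₂ V (mapD Φ₂ V.1 y) := by
  have h := ker_qD_le ζ V hy
  rw [maximalIdeal_dual2, Ideal.map_span, Set.image_pair, Ideal.mem_span_pair] at h
  obtain ⟨r₁, r₂, rfl⟩ := h
  have e : ∀ {g : dual2 k k ⟶ dual k k} {ξ' : DefSch X x (dual k k)} (Φ : Ov g ζ ξ') (a b : k),
      g de₁ = algebraMap k (dual k k : Art k k) a * de → g de₂ = algebraMap k (dual k k : Art k k) b * de →
      kap ξ' V (mapD Φ V.1 (r₁ * secD ζ V.1 de₁ + r₂ * secD ζ V.1 de₂)) =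
        algebraMap k (Sec x V.1) a * qD ζ V.1 r₁ + algebraMap k (Sec x V.1) b * qD ζ V.1 r₂ := by
    intro g ξ' Φ a b ha hb
    rw [map_add, map_mul, map_mul, mapD_secD, mapD_secD, ha, hb, map_mul, map_mul,
      kap_eq ξ' (r := mapD Φ V.1 r₁ * secD ξ' V.1 (algebraMap k _ a) + mapD Φ V.1 r₂ * secD ξ' V.1 (algebraMap k _ b))
        (by ring), map_add, map_mul, map_mul, qD_mapD, qD_mapD, qD_secD, qD_secD, AlgHom.commutes,
      AlgHom.commutes]
    exact congrArg₂ (· + ·) (mul_comm _ _) (mul_comm _ _)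
  rw [e Φ₃ 1 1 H9Quot.plus_de₁ H9Quot.plus_de₂, e Φ₁ 1 0 H9Quot.pr₁_de₁ H9Quot.pr₁_de₂,
    e Φ₂ 0 1 H9Quot.pr₂_de₁ H9Quot.pr₂_de₂]
  simp

end Groth.Agent.H9T1Fin
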