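import Groth.Agent.H9T1Fin.Kap
import Groth.Agent.H9DefObs.Cov

/-! Local lifts of an embedding to a deformation of its source. -/

set_option autoImplicit false
set_option linter.style.haveILetI false
set_option backward.isDefEq.respectTransparency false
set_option backward.isDefEq.respectTransparency.types false

universe u

open CategoryTheory CategoryTheory.Limits AlgebraicGeometry TopologicalSpace Opposite ArtFun ArtFun.Art

noncomputable section

namespace Groth.Agent.H9T1Fin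

open Groth.Agent.DefGlueLib Groth.Agent.H9DefObs

variable {k : Type u} [Field k] {X P : Scheme.{u}} {x : X ⟶ Art.specPt k}
variable (c : X ⟶ P) (p : P ⟶ Art.specPt k)

/-- An affine morphism pulls affine opens back to affine opens. -/
abbrev cP [IsAffineHom c] (V : Aff P) : Aff X := ⟨c ⁻¹ᵁ V.1, V.2.preimage c⟩

variable (x) in
/-- Pulling back functions. -/
def cS (V : P.Opens) : Sec p V →+* Sec x (c ⁻¹ᵁ V) := (c.app V).hom

variable {c p}

theorem cS_res {U V : P.Opens} (h : V ≤ U) (s : Sec p U) :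
    cS x c p V (resS p h s) = resS x (c.preimage_mono h) (cS x c p U s) :=
  congr($(c.naturality (homOfLE h).op) s)

theorem cS_algebraMap (hc : c ≫ p = x) (V : P.Opens) (t : k) :
    cS x c p V (algebraMap k (Sec p V) t) = algebraMap k (Sec x (c ⁻¹ᵁ V)) t := by
  subst hc
  have h : p.appLE ⊤ V le_top ≫ c.app V = (c ≫ p).appLE ⊤ (c ⁻¹ᵁ V) le_top := by
    rw [Scheme.Hom.app_eq_appLE, Scheme.Hom.appLE_comp_appLE]
  exact congr($h ((Scheme.ΓSpecIso (CommRingCat.of k)).inv t))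

variable (c p)
variable [IsAffineHom c] (𝒱 : FinCover P)

/-- The cover of the source. -/
def cover : FinCover X where
  ι := 𝒱.ι
  fintype := 𝒱.fintype
  U i := cP c (𝒱.U i)
  cover q := 𝒱.cover (c q)

/-- Compatible lifts over the members of the cover. -/
structure Lifts {C : Art k k} (ξ : DefSch X x C) where
  /-- the lifts -/
  σ : ∀ (i : 𝒱.ι) (V : Aff P), V ≤ 𝒱.U i → (Sec p V.1 →+* DSec ξ (c ⁻¹ᵁ V.1))
  q : ∀ i V h s, qD ξ _ (σ i V h s) = cS x c p V.1 s
  str : ∀ i V h t, σ i V h (algebraMap k _ t) = secD ξ _ (algebraMap k C t)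
  res : ∀ i {V W : Aff P} (hVW : V ≤ W) (h : W ≤ 𝒱.U i) (s : Sec p W.1),
    σ i V (hVW.trans h) (resS p hVW s) = resD ξ (c.preimage_mono hVW) (σ i W h s)

variable {c p 𝒱}

theorem nonempty_lifts [Smooth p] (hc : c ≫ p = x) {C : Art k k} (ξ : DefSch X x C) :
    Nonempty (Lifts c p 𝒱 ξ) := by
  have h : ∀ i, ∃ σ : ∀ V : Aff P, V ≤ 𝒱.U i → (Sec p V.1 →+* DSec ξ (c ⁻¹ᵁ V.1)),
      (∀ V h s, qD ξ _ (σ V h s) = cS x c p V.1 s) ∧
      (∀ V h t, σ V h (algebraMap k _ t) = secD ξ _ (algebraMap k C t)) ∧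
      ∀ {V W : Aff P} (hVW : V ≤ W) (h : W ≤ 𝒱.U i) (s : Sec p W.1),
        σ V (hVW.trans h) (resS p hVW s) = resD ξ (c.preimage_mono hVW) (σ W h s) := fun i =>
    exists_lifts (x := p) (𝒱.U i) (fun V => DSec ξ (c ⁻¹ᵁ V.1)) (fun V => Sec x (c ⁻¹ᵁ V.1))
      (fun {V W} h => resD ξ (c.preimage_mono h)) (fun {V W} h => (resS x (c.preimage_mono h)).toRingHom)
      (fun h₁ h₂ a => resD_resD ξ _ _ _) (fun V => qD ξ _) (fun h a => qD_resD ξ _ a)
      (fun V _ => (isDefD ξ (cP c V)).surjective) (fun V _ => isNilpotent_ker_qD ξ (cP c V))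
      (fun V => (secD ξ _).comp (algebraMap k C)) (fun h t => resD_secD ξ _ _)
      (fun V _ => cS x c p V.1) (fun h hW b => cS_res h b)
      (fun V hV t => (cS_algebraMap hc _ t).trans
        (((qD_secD ξ (cP c V) _).trans (congrArg _ (C.res.commutes t))).symm))
  choose σ h1 h2 h3 using h
  exact ⟨⟨σ, h1, h2, fun i {V W} hVW hW s => h3 i hVW hW s⟩⟩

/-- Transporting lifts along a morphism of deformations. -/
def Lifts.map {C C' : Art k k} {g : C' ⟶ C} {ξ' : DefSch X x C'} {ξ : DefSch X x C}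
    (L : Lifts c p 𝒱 ξ') (Φ : Ov g ξ' ξ) : Lifts c p 𝒱 ξ where
  σ i V h := (mapD Φ _).comp (L.σ i V h)
  q i V h s := by rw [RingHom.comp_apply, qD_mapD, L.q]
  str i V h t := by
    rw [RingHom.comp_apply, L.str, mapD_secD]
    exact congrArg _ (g.toAlgHom.commutes t)
  res i {V W} hVW h s := by rw [RingHom.comp_apply, L.res i hVW h s, mapD_resD]; rfl

variable [X.IsSeparated] [P.IsSeparated]

variable (c) in
/-- The part of the pullback of `V` in a member of the cover. -/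
abbrev cc' (i : 𝒱.ι) (V : Aff P) : Aff X := cutA (cP c (𝒱.U i)) (cP c V)

theorem cc'_le (i : 𝒱.ι) (V : Aff P) : (cc' c i V).1 ≤ c ⁻¹ᵁ (cutA (𝒱.U i) V).1 := fun q hq =>
  (cut_eq (𝒱.U i).1 V.1).ge ⟨cutA_le_left (cP c (𝒱.U i)) (cP c V) hq, cutA_le_right (cP c (𝒱.U i)) (cP c V) hq⟩

namespace Lifts

variable {C : Art k k} {ξ : DefSch X x C} (L : Lifts c p 𝒱 ξ)

/-- The `i`-th lift of a function on `V`. -/
def ev (i : 𝒱.ι) (V : Aff P) : Sec p V.1 →+* DSec ξ (cc' c i V).1 :=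
  ((resD ξ (cc'_le i V)).comp (L.σ i (cutA (𝒱.U i) V) (cutA_le_left _ _))).comp
    (resS p (cutA_le_right (𝒱.U i) V)).toRingHom

theorem ev_apply (i : 𝒱.ι) (V : Aff P) (s : Sec p V.1) :
    L.ev i V s = resD ξ (cc'_le i V) (L.σ i (cutA (𝒱.U i) V) (cutA_le_left _ _)
      (resS p (cutA_le_right (𝒱.U i) V) s)) := rfl

theorem qD_ev (i : 𝒱.ι) (V : Aff P) (s : Sec p V.1) :
    qD ξ _ (L.ev i V s) = resS x (cutA_le_right (cP c (𝒱.U i)) (cP c V)) (cS x c p V.1 s) := by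
  rw [ev_apply, qD_resD, L.q, cS_res, resS_resS]

theorem ev_str (i : 𝒱.ι) (V : Aff P) (t : k) :
    L.ev i V (algebraMap k _ t) = secD ξ _ (algebraMap k C t) := by
  rw [ev_apply, AlgHom.commutes, L.str, resD_secD]

theorem ev_res (i : 𝒱.ι) {V' V : Aff P} (h : V' ≤ V) (s : Sec p V.1) :
    L.ev i V' (resS p h s) =
      resD ξ (cutA_mono (cP c (𝒱.U i)) (show cP c V' ≤ cP c V from c.preimage_mono h)) (L.ev i V s) := by
  rw [ev_apply, ev_apply, resS_resS, resD_resD,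
    ← resS_resS p (cutA_le_right (𝒱.U i) V) (cutA_mono (𝒱.U i) h), L.res i (cutA_mono (𝒱.U i) h) (cutA_le_left _ _),
    resD_resD]

theorem ev_map {C' : Art k k} {g : C ⟶ C'} {η : DefSch X x C'} (Φ : Ov g ξ η) (i : 𝒱.ι) (V : Aff P)
    (s : Sec p V.1) : (L.map Φ).ev i V s = mapD Φ _ (L.ev i V s) := by
  rw [ev_apply, ev_apply, mapD_resD]
  rfl

end Lifts

end Groth.Agent.H9T1Fin
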