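import Groth.Agent.H9T1Fin.Theta
import Groth.Agent.H9DefObs.Vanish

/-! A lift of the cocycle to tuples gives compatible lifts of functions to the deformation. -/

set_option autoImplicit false
set_option linter.style.haveILetI false
set_option backward.isDefEq.respectTransparency false
set_option backward.isDefEq.respectTransparency.types false

universe u

open CategoryTheory CategoryTheory.Limits AlgebraicGeometry TopologicalSpace Opposite ArtFun ArtFun.Art

noncomputable section

namespace Groth.Agent.H9T1Fin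

open Groth.Agent.DefGlueLib Groth.Agent.H9DefObs
open Scheme (AffineZariskiSite)

variable {k : Type u} [Field k] {X P : Scheme.{u}} {x : X ⟶ Art.specPt k}
  {c : X ⟶ P} {p : P ⟶ Art.specPt k} [IsAffineHom c] {𝒱 : FinCover P}
  [X.IsSeparated] [P.IsSeparated] [QuasiSeparated p] {ξ : DefSch X x (dual k k)}
  (L : Lifts c p 𝒱 ξ) (η : Omega.sheaf p ⟶ FC c 𝒱)

/-- The value of the lift of the cocycle. -/
def ev' (V : Aff P) (s : Sec p V.1) : Γ(cov (cover c 𝒱) (Coh.structureModule X), c ⁻¹ᵁ V.1) :=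
  η.app V.1 (dO p V.1 (show Γ(P, V.1) from s))

theorem ev'_add (V : Aff P) (a b : Sec p V.1) : ev' η V (a + b) = ev' η V a + ev' η V b :=
  (congrArg (η.app V.1) ((OmegaSh.dOmega p).d.map_add _ _)).trans (map_add (η.app V.1).hom _ _)

theorem ev'_mul (V : Aff P) (a b : Sec p V.1) :
    ev' η V (a * b) = (show Γ(X, c ⁻¹ᵁ V.1) from cS x c p V.1 a) • ev' η V b +
      (show Γ(X, c ⁻¹ᵁ V.1) from cS x c p V.1 b) • ev' η V a := by
  refine (congrArg (η.app V.1) (dO_mul p V.1 (show Γ(P, V.1) from a) (show Γ(P, V.1) from b))).trans ?_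
  refine (map_add (η.app V.1).hom _ _).trans ?_
  exact congrArg₂ (· + ·) (Scheme.Modules.Hom.app_smul η (show Γ(P, V.1) from a) _)
    (Scheme.Modules.Hom.app_smul η (show Γ(P, V.1) from b) _)

theorem ev'_res {V' V : Aff P} (h : V' ≤ V) (s : Sec p V.1) :
    ev' η V' (resS p h s) = resM _ (c.preimage_mono h) (ev' η V s) := by
  refine (congrArg (η.app V'.1) (dO_map p h (show Γ(P, V.1) from s))).trans ?_
  exact QCoh.map_app_comm η (homOfLE h) _

theorem ev'_str (V : Aff P) (t : k) : ev' η V (algebraMap k _ t) = 0 :=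
  (congrArg (η.app V.1) (dO_str p V.1 t)).trans (map_zero (η.app V.1).hom)

/-- The lift of a function determined by the lift of the cocycle. -/
def IsPsi (V : Aff P) (s : Sec p V.1) (r : DSec ξ (c ⁻¹ᵁ V.1)) : Prop :=
  qD ξ _ r = cS x c p V.1 s ∧ tup L V s r = ev' η V s

variable {L η}

theorem isPsi_unique {V : Aff P} {s : Sec p V.1} {r r' : DSec ξ (c ⁻¹ᵁ V.1)} (h : IsPsi L η V s r)
    (h' : IsPsi L η V s r') : r = r' := by
  have e := tup_sub L V h.1 h'.1
  rw [h.2, h'.2, sub_self] at e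
  have hk : qD ξ _ (r' - r) = 0 := by rw [map_sub, h.1, h'.1, sub_self]
  have h0 := toCov_injective (cover c 𝒱) (Coh.structureModule X) (c ⁻¹ᵁ V.1) (e.symm.trans (map_zero _).symm)
  exact (sub_eq_zero.1 (eq_zero_of_kap ξ (V := cP c V) hk h0)).symm

theorem exists_isPsi (hc : c ≫ p = x) (hη : η ≫ pQ c 𝒱 = theta L hc) (V : Aff P) (s : Sec p V.1) :
    ∃ r, IsPsi L η V s r := by
  obtain ⟨r₀, hr₀⟩ := exists_lift_sec (ξ := ξ) (c := c) (p := p) V s
  have h1 : (pQ c 𝒱).app V.1 (ev' η V s) = dfn L V s := by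
    refine Eq.trans ?_ (theta_app L hc ⟨V.1, V.2⟩ s)
    rw [← hη]
    rfl
  rw [dfn_eq L V hr₀, eq_comm, ← sub_eq_zero, ← map_sub] at h1
  obtain ⟨a, ha⟩ := exists_toCov_eq (cover c 𝒱) _ _ _ h1
  obtain ⟨a', ha'⟩ := (isDefD ξ (cP c V)).surjective (show Sec x (c ⁻¹ᵁ V.1) from a)
  have hr : qD ξ _ (r₀ + secD ξ _ H9Quot.de * a') = cS x c p V.1 s := by
    rw [map_add, map_mul, hr₀, qD_secD ξ (cP c V), dual_res_de, map_zero, zero_mul, add_zero]
  refine ⟨r₀ + secD ξ _ H9Quot.de * a', hr, ?_⟩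
  have e := tup_sub L V hr₀ hr
  rw [add_sub_cancel_left, kap_eq ξ (V := cP c V) rfl, ha'] at e
  rw [show toO (x := x) _ (show Sec x (c ⁻¹ᵁ V.1) from a) = a from rfl, ha] at e
  exact (sub_right_injective e)

variable (L η)

/-- Compatible lifts of functions. -/
def psi (hc : c ≫ p = x) (hη : η ≫ pQ c 𝒱 = theta L hc) (V : Aff P) : Sec p V.1 →+* DSec ξ (c ⁻¹ᵁ V.1) :=
  RingHom.mk'
    { toFun := fun s => (exists_isPsi hc hη V s).choose
      map_one' := isPsi_unique (exists_isPsi hc hη V 1).choose_spec ⟨by rw [map_one, map_one], by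
        have h0 := ev'_str η V (1 : k)
        have h1 := tup_str L V (1 : k)
        rw [map_one (algebraMap k (Sec p V.1))] at h0 h1
        rw [map_one (algebraMap k (dual k k : Art k k)), map_one] at h1
        rw [h0, h1]⟩
      map_mul' := fun a b => by
        have ha := (exists_isPsi hc hη V a).choose_spec
        have hb := (exists_isPsi hc hη V b).choose_spec
        refine isPsi_unique (exists_isPsi hc hη V (a * b)).choose_spec ⟨by rw [map_mul, map_mul, ha.1, hb.1], ?_⟩
        rw [tup_mul L V ha.1 hb.1, ha.2, hb.2, ev'_mul (x := x)] }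
    fun a b => by
      have ha := (exists_isPsi hc hη V a).choose_spec
      have hb := (exists_isPsi hc hη V b).choose_spec
      refine isPsi_unique (exists_isPsi hc hη V (a + b)).choose_spec ⟨?_, ?_⟩
      · exact (map_add _ _ _).trans ((congrArg₂ (· + ·) ha.1 hb.1).trans (map_add _ _ _).symm)
      · exact (tup_add L V ha.1 hb.1).trans ((congrArg₂ (· + ·) ha.2 hb.2).trans (ev'_add η V a b).symm)

variable (hc : c ≫ p = x) (hη : η ≫ pQ c 𝒱 = theta L hc)

theorem isPsi_psi (V : Aff P) (s : Sec p V.1) : IsPsi L η V s (psi L η hc hη V s) :=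
  (exists_isPsi hc hη V s).choose_spec

theorem qD_psi (V : Aff P) (s : Sec p V.1) : qD ξ _ (psi L η hc hη V s) = cS x c p V.1 s :=
  (isPsi_psi L η hc hη V s).1

theorem psi_str (V : Aff P) (t : k) :
    psi L η hc hη V (algebraMap k _ t) = secD ξ _ (algebraMap k (dual k k : Art k k) t) := by
  refine isPsi_unique (isPsi_psi L η hc hη V _) ⟨?_, ?_⟩
  · exact ((qD_secD ξ (cP c V) _).trans (congrArg _ ((dual k k : Art k k).res.commutes t))).trans
      (cS_algebraMap hc _ t).symm
  · rw [tup_str, ev'_str]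

theorem psi_res {V' V : Aff P} (h : V' ≤ V) (s : Sec p V.1) :
    psi L η hc hη V' (resS p h s) = resD ξ (c.preimage_mono h) (psi L η hc hη V s) := by
  have hs := isPsi_psi L η hc hη V s
  refine isPsi_unique (isPsi_psi L η hc hη V' _) ⟨by rw [qD_resD, hs.1, cS_res], ?_⟩
  rw [tup_res L h hs.1, hs.2, ev'_res]

end Groth.Agent.H9T1Fin
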