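import Groth.Agent.H9T1Fin.Class
import Groth.Agent.H9T1Fin.Psi
import Groth.Agent.H9T1Fin.Embed
import Groth.Agent.H9Hilb.Tangent
import Groth.Agent.H9Quot.FinExt
import Groth.Agent.H9DefExt.Main
import Groth.Agent.ZClosLib.CohDescent
import Groth.Agent.Lib.CurveDeg

/-! Finiteness of the tangent space of the deformation functor of a closed subscheme of a smooth scheme. -/

set_option autoImplicit false
set_option linter.style.haveILetI false
set_option backward.isDefEq.respectTransparency false
set_option backward.isDefEq.respectTransparency.types false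

universe u

open CategoryTheory CategoryTheory.Limits AlgebraicGeometry TopologicalSpace Opposite ArtFun ArtFun.Art Abelian

noncomputable section

namespace Groth.Agent.H9T1Fin

open Groth.Agent.DefGlueLib Groth.Agent.H9DefObs

variable {k : Type u} [Field k] {X P : Scheme.{u}}

section Forget

variable {x : X ⟶ Art.specPt k} {c : X ⟶ P} {p : P ⟶ Art.specPt k} [IsClosedImmersion c] (hc : c ≫ p = x)

/-- The deformation underlying an embedded deformation. -/
def forget {A : Art k k} (I : (localHilb P p c.ker).obj A) : DefSch X x A where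
  total := (objectOf I).total
  f := (objectOf I).f
  flat := (objectOf I).flat
  i := c.toImage ≫ (objectOf I).i
  isPullback := by
    have h : IsPullback c.toImage x (subOver p c.ker) (𝟙 _) := IsPullback.of_horiz_isIso ⟨by
      rw [Category.comp_id, ← hc]
      exact c.toImage_imageι_assoc p⟩
    simpa using h.paste_horiz (objectOf I).isPullback

theorem forget_i_comp {A : Art k k} (I : (localHilb P p c.ker).obj A) :
    (forget hc I).i ≫ I.1.subschemeι = c ≫ XAincl p A := by
  show (c.toImage ≫ (objectOf I).i) ≫ I.1.subschemeι = _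
  rw [Category.assoc]
  refine (congrArg (c.toImage ≫ ·) (objectOf_i_compat I)).trans ?_
  exact c.toImage_imageι_assoc _

theorem forget_cl_map {A B : Art k k} (g : A ⟶ B) (I : (localHilb P p c.ker).obj A) :
    (forget hc ((localHilb P p c.ker).map g I)).cl = (defFunctor (Λ := k) X x).map g (forget hc I).cl := by
  rw [defFunctor_map_cl]
  let J := (localHilb P p c.ker).map g I
  let h : J.1.subscheme ⟶ I.1.subscheme := (I.1.comapIso (XAmap p g)).hom ≫ pullback.snd _ _
  have hh : h ≫ I.1.subschemeι = J.1.subschemeι ≫ XAmap p g := by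
    show ((I.1.comapIso (XAmap p g)).hom ≫ pullback.snd _ _) ≫ I.1.subschemeι = _
    rw [Category.assoc, ← pullback.condition, ← Category.assoc]
    exact congrArg (· ≫ XAmap p g) (Scheme.IdealSheafData.comapIso_hom_fst _ _)
  refine cl_eq_iff.2 ⟨Ov.toBC (g := g) (ξ := forget hc I)
    { hom := h
      w := ?_
      i_hom := ?_ }⟩
  · show h ≫ I.1.subschemeι ≫ XApr p A = (J.1.subschemeι ≫ XApr p B) ≫ Art.specMap g
    rw [← Category.assoc, hh, Category.assoc, XAmap_snd, Category.assoc]
  · rw [← cancel_mono I.1.subschemeι]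
    show ((forget hc J).i ≫ h) ≫ I.1.subschemeι = (forget hc I).i ≫ I.1.subschemeι
    rw [Category.assoc, hh, ← Category.assoc, forget_i_comp, forget_i_comp, Category.assoc, XAincl_XAmap]

theorem exists_forgetLin [TangentStr (localHilb P p c.ker)] [TangentStr (defFunctor (Λ := k) X x)]
    (h0 : H0 (localHilb P p c.ker)) (heps : Heps (localHilb P p c.ker)) :
    ∃ Φ : TangentSpace (localHilb P p c.ker) →ₗ[k] TangentSpace (defFunctor (Λ := k) X x),
      ∀ I, Φ (TangentSpace.mk I) = TangentSpace.mk (forget hc I).cl :=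
  ⟨{ toFun := fun t => TangentSpace.mk (forget hc (TangentSpace.val t)).cl
     map_add' := fun t t' => by
      obtain ⟨z, hz₁, hz₂⟩ := ArtFunLib.exists_pair h0 heps (TangentSpace.val t) (TangentSpace.val t')
      have e1 : t = TangentSpace.mk ((localHilb P p c.ker).map pr₁ z) := congrArg TangentSpace.mk hz₁.symm
      have e2 : t' = TangentSpace.mk ((localHilb P p c.ker).map pr₂ z) := congrArg TangentSpace.mk hz₂.symm
      rw [e1, e2, ArtFunLib.tangent_add_eq z]
      show TangentSpace.mk (forget hc ((localHilb P p c.ker).map plus z)).cl =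
        TangentSpace.mk (forget hc ((localHilb P p c.ker).map pr₁ z)).cl +
          TangentSpace.mk (forget hc ((localHilb P p c.ker).map pr₂ z)).cl
      rw [forget_cl_map hc, forget_cl_map hc, forget_cl_map hc]
      exact (ArtFunLib.tangent_add_eq _).symm
     map_smul' := fun a t => by
      rw [show t = TangentSpace.mk (TangentSpace.val t) from rfl, ArtFunLib.tangent_smul_eq]
      show TangentSpace.mk (forget hc ((localHilb P p c.ker).map (scale a) (TangentSpace.val t))).cl =
        a • TangentSpace.mk (forget hc (TangentSpace.val t)).cl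
      rw [forget_cl_map hc]
      exact (ArtFunLib.tangent_smul_eq a _).symm }, fun _ => rfl⟩

/-- A deformation embedded in the trivial deformation of the ambient space comes from the local Hilbert functor. -/
theorem exists_forget_eq {A : Art k k} (ξ : DefSch X x A) (ι : ξ.total ⟶ XA p A) [IsClosedImmersion ι]
    (hι : ι ≫ XApr p A = ξ.f) (hi : ξ.i ≫ ι = c ≫ XAincl p A) :
    ∃ I, (forget hc I).cl = ξ.cl := by
  have hflat : FlatOver P p A ι.ker := by
    show Flat (ι.ker.subschemeι ≫ XApr p A)
    have e : inv ι.toImage ≫ ι = ι.ker.subschemeι := by rw [IsIso.inv_comp_eq]; exact ι.toImage_imageι.symm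
    rw [← e, Category.assoc, hι]
    exact (MorphismProperty.cancel_left_of_respectsIso @Flat (inv ι.toImage) _).2 ξ.flat
  have sq : IsPullback c ξ.i (XAincl p A) ι := (IsPullback.of_bot
    (h₁₁ := ξ.i) (v₁₁ := c) (v₁₂ := ι) (h₂₁ := XAincl p A) (v₂₁ := p) (v₂₂ := XApr p A)
    (by rw [hc, hι]; exact ξ.isPullback) hi (isPullback_XAincl p A)).flip
  let I : (localHilb P p c.ker).obj A := ⟨ι.ker, hflat, (FComplLib.ker_of_isPullback sq).symm⟩
  have e1 : (forget hc I).i ≫ inv ι.toImage = ξ.i := by
    refine (IsIso.comp_inv_eq ι.toImage).2 ?_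
    refine (cancel_mono I.1.subschemeι).1 ?_
    refine (forget_i_comp hc I).trans ?_
    rw [Category.assoc]
    exact hi.symm.trans (congrArg (ξ.i ≫ ·) ι.toImage_imageι.symm)
  have e2 : inv ι.toImage ≫ ξ.f = ι.ker.subschemeι ≫ XApr p A := by
    rw [IsIso.inv_comp_eq, ← hι]
    exact (ι.toImage_imageι_assoc _).symm
  exact ⟨I, cl_eq_iff.2 ⟨⟨(asIso ι.toImage).symm, e2, e1⟩⟩⟩

end Forget

variable [X.Over (Spec (CommRingCat.of k))] {c : X ⟶ P} {p : P ⟶ Art.specPt k} [IsClosedImmersion c]
  {𝒱 : FinCover P} [X.IsSeparated] [P.IsSeparated] [QuasiSeparated p] [HasExt.{u} X.Modules]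
  (hc : c ≫ p = X ↘ Spec (CommRingCat.of k))

/-- A deformation with vanishing class is embedded. -/
theorem exists_forget_eq_of_cls (ξ : DefSch X (X ↘ Spec (CommRingCat.of k)) (dual k k)) (L : Lifts c p 𝒱 ξ)
    (h : cls hc L = 0) : ∃ I, (forget hc I).cl = ξ.cl := by
  obtain ⟨z, hz⟩ := Ext.covariant_sequence_exact₃ _ (shortExact_covSeq (cover c 𝒱) (Coh.structureModule X)) _
    (zero_add 1) h
  obtain ⟨η', rfl⟩ := (Ext.mk₀_bijective _ _).2 z
  have hη' : η' ≫ cokernel.π (toCov (cover c 𝒱) (Coh.structureModule X)) = flat (theta L hc) :=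
    (Ext.mk₀_bijective _ _).1 ((Ext.mk₀_comp_mk₀ _ _).symm.trans hz)
  let η : Omega.sheaf p ⟶ FC c 𝒱 := (Scheme.Modules.pullbackPushforwardAdjunction c).homEquiv _ _ η'
  have hη : η ≫ pQ c 𝒱 = theta L hc := by
    refine ((Scheme.Modules.pullbackPushforwardAdjunction c).homEquiv_naturality_right η' _).symm.trans ?_
    rw [hη']
    exact Equiv.apply_symm_apply _ _
  obtain ⟨ι, hι, h1, h2⟩ := exists_embedding ξ hc (psi L η hc hη) (qD_psi L η hc hη) (psi_str L η hc hη)
    (fun h s => psi_res L η hc hη h s)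
  exact exists_forget_eq hc ξ ι h1 h2

omit [HasExt.{u} X.Modules] in
include hc in
/-- Finiteness of the tangent space. -/
theorem finite_tangent [Smooth p] [IsSeparated p] [CompactSpace P]
    [IsProper (X ↘ Spec (CommRingCat.of k))] [TangentStr (defFunctor (Λ := k) X (X ↘ Spec (CommRingCat.of k)))]
    {N : ℕ} (i : X ⟶ PnVan.P k N) [IsClosedImmersion i] :
    Module.Finite k (TangentSpace (defFunctor (Λ := k) X (X ↘ Spec (CommRingCat.of k)))) := by
  haveI : HasExt.{u} X.Modules := IsGrothendieckAbelian.hasExt _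
  haveI : IsLocallyNoetherian P := LocallyOfFiniteType.isLocallyNoetherian p
  haveI : IsLocallyNoetherian X := LocallyOfFiniteType.isLocallyNoetherian c
  obtain ⟨𝒱⟩ := exists_finCover P
  let F := (localHilb P p c.ker)
  have h0 : H0 F := H9Hilb.h0_localHilb
  have heps : Heps F := fun _ _ _ _ h => H9Hilb.bijective_cmp h (Art.dual k k).res_surjective
  obtain ⟨T⟩ := ArtFunLib.nonempty_tangentStr h0 heps
  have hpr : IsProper (c.ker.subschemeι ≫ p) := by
    rw [show c.ker.subschemeι = inv c.toImage ≫ c by rw [eq_comm, IsIso.inv_comp_eq]; exact c.toImage_imageι.symm,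
      Category.assoc, hc]
    infer_instance
  haveI hH : Module.Finite k (TangentSpace F) := ((ArtFunLib.Hull.isProrepresentable_iff Function.surjective_id h0).1
    (H9Hilb.isProrepresentable p c.ker)).2.2.1
  obtain ⟨φ, hφ⟩ := exists_linearMap (𝒱 := 𝒱) hc
  obtain ⟨Φ, hΦ⟩ := exists_forgetLin hc h0 heps
  letI : P.Over (Spec (CommRingCat.of k)) := ⟨p⟩
  haveI : Smooth (P ↘ Spec (CommRingCat.of k)) := ‹Smooth p›
  haveI hE : Module.Finite k (Ext.{u} ((Scheme.Modules.pullback c).obj (Omega.sheaf p)) (Coh.structureModule X) 1) :=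
    H9Quot.finite_ext_one_of_closed i (ZClosLib.isCoh_pullback c
      (CurveDeg.isCoh_of_isFinLocFree (H9DefExt.isFinLocFree_omega (k := k) (X := P)))) QCoh.isCoh_structureModule'
  have hker : LinearMap.ker φ ≤ LinearMap.range Φ := fun t ht => by
    obtain ⟨ξ, hξ⟩ := cl_surjective (TangentSpace.val t)
    have e : t = TangentSpace.mk ξ.cl := congrArg TangentSpace.mk hξ.symm
    obtain ⟨L⟩ := nonempty_lifts (𝒱 := 𝒱) hc ξ
    subst e
    obtain ⟨I, hI⟩ := exists_forget_eq_of_cls hc ξ L ((hφ ξ L).symm.trans ht)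
    exact ⟨TangentSpace.mk I, (hΦ I).trans (congrArg TangentSpace.mk hI)⟩
  haveI : Module.Finite k (LinearMap.ker φ) :=
    Module.Finite.of_injective (Submodule.inclusion hker) (Submodule.inclusion_injective hker)
  haveI : Module.Finite k (_ ⧸ LinearMap.ker φ) := Module.Finite.equiv φ.quotKerEquivRange.symm
  exact Module.Finite.of_submodule_quotient (LinearMap.ker φ)

end Groth.Agent.H9T1Fin
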