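import Groth.Agent.H9T1Fin.Lifts
import Groth.Agent.H9DefExt.Fam
import Groth.Agent.H9DefObs.Up

/-! The cocycle of derivations attached to local lifts of an embedding. -/

set_option autoImplicit false
set_option linter.style.haveILetI false
set_option backward.isDefEq.respectTransparency false
set_option backward.isDefEq.respectTransparency.types false

universe u

open CategoryTheory CategoryTheory.Limits AlgebraicGeometry TopologicalSpace Opposite ArtFun ArtFun.Art

noncomputable section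

namespace Groth.Agent.H9T1Fin

open Groth.Agent.DefGlueLib Groth.Agent.H9DefObs
open Scheme (AffineZariskiSite)

variable {k : Type u} [Field k] {X P : Scheme.{u}} {x : X ⟶ Art.specPt k}
variable (c : X ⟶ P) (p : P ⟶ Art.specPt k) [IsAffineHom c] (𝒱 : FinCover P)

/-- The affine open of a member of the site. -/
abbrev aff (U : AffineZariskiSite P) : Aff P := ⟨U.toOpens, U.2⟩

/-- The tuples, pushed forward. -/
abbrev FC : P.Modules := (Scheme.Modules.pushforward c).obj (cov (cover c 𝒱) (Coh.structureModule X))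

/-- The tuples modulo functions, pushed forward. -/
abbrev FQ : P.Modules := (Scheme.Modules.pushforward c).obj (qt (cover c 𝒱) (Coh.structureModule X))

/-- The projection, pushed forward. -/
abbrev pQ : FC c 𝒱 ⟶ FQ c 𝒱 :=
  (Scheme.Modules.pushforward c).map (cokernel.π (toCov (cover c 𝒱) (Coh.structureModule X)))

variable {c p 𝒱}
variable [X.IsSeparated] [P.IsSeparated] {ξ : DefSch X x (dual k k)} (L : Lifts c p 𝒱 ξ)

/-- The difference of a lift and a global lift. -/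
def dif (i : 𝒱.ι) (V : Aff P) (s : Sec p V.1) (r : DSec ξ (c ⁻¹ᵁ V.1)) : DSec ξ (cc' c i V).1 :=
  L.ev i V s - resD ξ (cutA_le_right (cP c (𝒱.U i)) (cP c V)) r

theorem qD_dif (i : 𝒱.ι) (V : Aff P) {s : Sec p V.1} {r : DSec ξ (c ⁻¹ᵁ V.1)}
    (hr : qD ξ _ r = cS x c p V.1 s) : qD ξ _ (dif L i V s r) = 0 := by
  rw [dif, map_sub, L.qD_ev, qD_resD, hr, sub_self]

/-- The tuple of the coordinates. -/
def tup (V : Aff P) (s : Sec p V.1) (r : DSec ξ (c ⁻¹ᵁ V.1)) :
    Γ(cov (cover c 𝒱) (Coh.structureModule X), c ⁻¹ᵁ V.1) :=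
  covMk (cover c 𝒱) _ (c ⁻¹ᵁ V.1) fun i => toO (x := x) _ (kap ξ (cc' c i V) (dif L i V s r))

theorem covGet_tup (V : Aff P) (s : Sec p V.1) (r : DSec ξ (c ⁻¹ᵁ V.1)) (i : 𝒱.ι) :
    covGet (cover c 𝒱) _ _ i (tup L V s r) = toO (x := x) _ (kap ξ (cc' c i V) (dif L i V s r)) :=
  covGet_covMk _ _ _ _ _

theorem tup_sub (V : Aff P) {s : Sec p V.1} {r r' : DSec ξ (c ⁻¹ᵁ V.1)} (hr : qD ξ _ r = cS x c p V.1 s)
    (hr' : qD ξ _ r' = cS x c p V.1 s) :
    tup L V s r - tup L V s r' = (toCov (cover c 𝒱) (Coh.structureModule X)).app (c ⁻¹ᵁ V.1)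
      (toO (x := x) _ (kap ξ (cP c V) (r' - r))) := covGet_ext _ fun i => by
  rw [map_sub, covGet_tup, covGet_tup, covGet_toCov]
  have h : qD ξ _ (r' - r) = 0 := by rw [map_sub, hr, hr', sub_self]
  refine Eq.trans ?_ (kap_res ξ (V := cc' c i V) (W := cP c V) (cutA_le_right _ _) h)
  refine ((kap_sub ξ (qD_dif L i V hr) (qD_dif L i V hr')).symm.trans (congrArg _ ?_))
  rw [dif, dif, map_sub]
  abel

theorem pi_tup_congr (V : Aff P) {s : Sec p V.1} {r r' : DSec ξ (c ⁻¹ᵁ V.1)} (hr : qD ξ _ r = cS x c p V.1 s)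
    (hr' : qD ξ _ r' = cS x c p V.1 s) :
    (pQ c 𝒱).app V.1 (tup L V s r) = (pQ c 𝒱).app V.1 (tup L V s r') := by
  rw [← sub_eq_zero, ← map_sub, tup_sub L V hr hr']
  exact π_toCov _ _ _ _

omit [X.IsSeparated] [P.IsSeparated] in
theorem exists_lift_sec (V : Aff P) (s : Sec p V.1) : ∃ r, qD ξ (c ⁻¹ᵁ V.1) r = cS x c p V.1 s :=
  (isDefD ξ (cP c V)).surjective _

/-- The cocycle on functions. -/
def dfn (V : Aff P) (s : Sec p V.1) : Γ(FQ c 𝒱, V.1) :=
  (pQ c 𝒱).app V.1 (tup L V s (exists_lift_sec (ξ := ξ) V s).choose)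

theorem dfn_eq (V : Aff P) {s : Sec p V.1} {r : DSec ξ (c ⁻¹ᵁ V.1)} (hr : qD ξ _ r = cS x c p V.1 s) :
    dfn L V s = (pQ c 𝒱).app V.1 (tup L V s r) :=
  pi_tup_congr L V (exists_lift_sec (ξ := ξ) V s).choose_spec hr

theorem tup_add (V : Aff P) {a b : Sec p V.1} {ra rb : DSec ξ (c ⁻¹ᵁ V.1)} (ha : qD ξ _ ra = cS x c p V.1 a)
    (hb : qD ξ _ rb = cS x c p V.1 b) : tup L V (a + b) (ra + rb) = tup L V a ra + tup L V b rb :=
  covGet_ext _ fun i => by
    rw [map_add, covGet_tup, covGet_tup, covGet_tup]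
    refine (congrArg (kap ξ _) ?_).trans (kap_add ξ (qD_dif L i V ha) (qD_dif L i V hb))
    rw [dif, dif, dif, map_add, map_add]
    abel

theorem tup_mul (V : Aff P) {a b : Sec p V.1} {ra rb : DSec ξ (c ⁻¹ᵁ V.1)} (ha : qD ξ _ ra = cS x c p V.1 a)
    (hb : qD ξ _ rb = cS x c p V.1 b) :
    tup L V (a * b) (ra * rb) = (show Γ(X, c ⁻¹ᵁ V.1) from cS x c p V.1 a) • tup L V b rb +
      (show Γ(X, c ⁻¹ᵁ V.1) from cS x c p V.1 b) • tup L V a ra :=
  covGet_ext _ fun i => by
    rw [map_add]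
    erw [covGet_smul, covGet_smul]
    rw [covGet_tup, covGet_tup, covGet_tup]
    have hle : (cc' c i V).1 ≤ c ⁻¹ᵁ V.1 := cutA_le_right (cP c (𝒱.U i)) (cP c V)
    have e : dif L i V (a * b) (ra * rb) =
        L.ev i V a * dif L i V b rb + resD ξ hle rb * dif L i V a ra := by
      rw [dif, dif, dif, map_mul, map_mul]
      ring
    show kap ξ (cc' c i V) (dif L i V (a * b) (ra * rb)) =
      resS x hle (cS x c p V.1 a) * kap ξ (cc' c i V) (dif L i V b rb) +
        resS x hle (cS x c p V.1 b) * kap ξ (cc' c i V) (dif L i V a ra)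
    rw [e, kap_add ξ (by rw [map_mul, qD_dif L i V hb, mul_zero]) (by rw [map_mul, qD_dif L i V ha, mul_zero]),
      kap_mul ξ (qD_dif L i V hb), kap_mul ξ (qD_dif L i V ha), L.qD_ev, qD_resD, hb]

theorem tup_str (V : Aff P) (t : k) :
    tup L V (algebraMap k _ t) (secD ξ _ (algebraMap k (dual k k : Art k k) t)) = 0 :=
  covGet_ext _ fun i => by
    rw [map_zero, covGet_tup, dif, L.ev_str, resD_secD, sub_self, kap_zero]

theorem tup_res {V' V : Aff P} (h : V' ≤ V) {s : Sec p V.1} {r : DSec ξ (c ⁻¹ᵁ V.1)}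
    (hr : qD ξ _ r = cS x c p V.1 s) :
    tup L V' (resS p h s) (resD ξ (c.preimage_mono h) r) = resM _ (c.preimage_mono h) (tup L V s r) :=
  covGet_ext _ fun i => by
    rw [covGet_tup, covGet_res, covGet_tup]
    refine Eq.trans ?_ (kap_res ξ (cutA_mono (cP c (𝒱.U i)) (show cP c V' ≤ cP c V from c.preimage_mono h))
      (qD_dif L i V hr))
    refine congrArg (kap ξ _) ?_
    rw [dif, dif, L.ev_res i h, map_sub, resD_resD, resD_resD]

/-- The cocycle as a family of derivations. -/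
def thetaFam (hc : c ≫ p = x) : H9DefExt.ModFam p (FQ c 𝒱) where
  D U s := dfn L (aff U) s
  add U a b := by
    obtain ⟨ra, ha⟩ := exists_lift_sec (ξ := ξ) (c := c) (p := p) (aff U) a
    obtain ⟨rb, hb⟩ := exists_lift_sec (ξ := ξ) (c := c) (p := p) (aff U) b
    refine (dfn_eq L (aff U) (r := ra + rb) ?_).trans ?_
    · exact (map_add _ ra rb).trans ((congrArg₂ (· + ·) ha hb).trans (map_add _ a b).symm)
    rw [dfn_eq L _ ha, dfn_eq L _ hb, ← map_add, ← tup_add L (aff U) ha hb]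
  map {U V} h s := by
    have h' : aff V ≤ aff U := AffineZariskiSite.toOpens_mono h
    obtain ⟨r, hr⟩ := exists_lift_sec (ξ := ξ) (c := c) (p := p) (aff U) s
    refine (dfn_eq L (aff V) (r := resD ξ (c.preimage_mono h') r) ?_).trans ?_
    · exact (qD_resD ξ _ r).trans ((congrArg _ hr).trans (cS_res h' s).symm)
    rw [dfn_eq L _ hr]
    refine Eq.trans ?_ (resM_app (pQ c 𝒱) h' _).symm
    exact congrArg _ (tup_res L h' hr)
  mul U a b := by
    obtain ⟨ra, ha⟩ := exists_lift_sec (ξ := ξ) (c := c) (p := p) (aff U) a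
    obtain ⟨rb, hb⟩ := exists_lift_sec (ξ := ξ) (c := c) (p := p) (aff U) b
    refine (dfn_eq L (aff U) (r := ra * rb) ?_).trans ?_
    · exact (map_mul _ ra rb).trans ((congrArg₂ (· * ·) ha hb).trans (map_mul _ a b).symm)
    rw [dfn_eq L _ ha, dfn_eq L _ hb]
    refine Eq.trans (congrArg _ (tup_mul L (aff U) ha hb)) ?_
    rw [map_add]
    exact congrArg₂ (· + ·) (Scheme.Modules.Hom.app_smul (pQ c 𝒱) (show Γ(P, U.toOpens) from a) _)
      (Scheme.Modules.Hom.app_smul (pQ c 𝒱) (show Γ(P, U.toOpens) from b) _)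
  str U t := by
    refine (dfn_eq L (aff U) (r := secD ξ _ (algebraMap k (dual k k : Art k k) t)) ?_).trans ?_
    · exact ((qD_secD ξ (cP c (aff U)) _).trans (congrArg _ ((dual k k : Art k k).res.commutes t))).trans
        (cS_algebraMap hc _ t).symm
    exact (congrArg _ (tup_str L (aff U) t)).trans (map_zero _)

variable [QuasiSeparated p]

/-- The cocycle. -/
def theta (hc : c ≫ p = x) : Omega.sheaf p ⟶ FQ c 𝒱 := (thetaFam L hc).exists_hom.choose

theorem theta_app (hc : c ≫ p = x) (U : AffineZariskiSite P) (s : Γ(P, U.toOpens)) :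
    (theta L hc).app U.toOpens ((OmegaSh.dOmega p).app U.toOpens s) = dfn L (aff U) s :=
  (thetaFam L hc).exists_hom.choose_spec U s

end Groth.Agent.H9T1Fin
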